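import Cfsg.Agent.H214.XR.RankTwoU
import Cfsg.Agent.H567.KB.LineB
import Cfsg.Agent.H682.KB.KMain
import Cfsg.Agent.S1093

/-!
# S4791 + S4927, row `E₈(q)`: the height theorem for `ord_p(q) = 8`, `19 ≤ p` (helper581)

* `x0_eq_kJ_of_tab` : the height theorem for `E₈(q)`, two degrees divisible by `ord_p(q)`, from data over `ℤ[x] / (x⁴ - P)`;
* `ht_E8_8` : `ord_p(q) = 8`.
-/

set_option autoImplicit false
set_option linter.unusedSectionVars false

namespace Cfsg.Agent.H581.XE8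

open CoxeterSystem Cfsg Cfsg.Lie Cfsg.Lie.ChevalleyDatum
open Cfsg.Agent.ChevalleyStructure.CoxeterGeom Cfsg.Agent.ChevalleyStructure.CoxeterGeomTypes
open Cfsg.Agent.Tits.Roots Cfsg.Agent.Tits.Core Cfsg.Agent.Nodes Cfsg.Agent.Nodes.Reps Cfsg.Agent.Nodes.RGDChev
open Cfsg.Agent.H129.WData Cfsg.Agent.H129.TorusChar Cfsg.Agent.H210.EL Cfsg.Agent.H440.TD4
open Cfsg.Agent.H944.Tab Cfsg.Agent.H942.E8Tab Cfsg.Agent.H682.KB
open Cfsg.Agent.H944.RootVals (ms)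
open Cfsg.Agent.H567.KB (LamU wo rep_wo)
open Cfsg.Agent.H508.XR (kJ)
open Cfsg.Agent.H674.XZ (x0)

universe u

theorem not_dvd_W {p : ℕ} (hp : p.Prime) (h11 : 11 ≤ p) : ¬ p ∣ Nat.card CoxeterMatrix.E₈.Group := by
  have h1 : Nat.card CoxeterMatrix.E₈.Group = 696729600 := S1093.result (⟨8, CoxeterMatrix.E₈⟩, 696729600) (by simp)
  rw [h1, show 696729600 = 2 ^ 14 * 3 ^ 5 * 5 ^ 2 * 7 by norm_num, hp.dvd_mul, hp.dvd_mul, hp.dvd_mul]
  rintro (((h | h) | h) | h)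
  · have := Nat.le_of_dvd (by norm_num) (hp.dvd_of_dvd_pow h); omega
  · have := Nat.le_of_dvd (by norm_num) (hp.dvd_of_dvd_pow h); omega
  · have := Nat.le_of_dvd (by norm_num) (hp.dvd_of_dvd_pow h); omega
  · have := Nat.le_of_dvd (by norm_num) h; omega

/-- a value at a root is a value at a row of the table -/
theorem lam_tab {D : ChevalleyDatum} {l p : ℕ} {R : List (List ℕ)} (hR : chkTab D l R = true) (c : Fin l → ZMod p)
    (s : Fin D.nroots) : ∃ r ∈ R, lam c (vec D l s) = dotF r c ∨ lam c (vec D l s) = - dotF r c := by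
  have h1 : lam c (vec D l s) ∈ ms D l c := by
    unfold ms
    rw [Multiset.mem_map]
    exact ⟨s, Finset.mem_univ s, rfl⟩
  rw [ms_tab hR, Multiset.mem_add, Multiset.mem_coe, Multiset.mem_coe, List.mem_map, List.mem_map] at h1
  rcases h1 with ⟨r, hr, h⟩ | ⟨r, hr, h⟩
  · exact ⟨r, hr, Or.inl h.symm⟩
  · exact ⟨r, hr, Or.inr h.symm⟩

theorem mem_LamU {l p Q : ℕ} {D : ChevalleyDatum} {M : CoxeterMatrix (Fin l)} (hp : IsType D l M) {A : Mat l}
    (hA : ∀ i j, A i j = cartanOf D l i j) {C : List (Fin l × Mat l)} (h : ChainOK A C) {P : Q4}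
    (hq : (Q : ZMod p) ^ 4 = ev (Q : ZMod p) P) {B : List Q4} (hB : EigQ P (hd C) (0, 1, 0, 0) B) :
    (vv (Q : ZMod p) B : Fin l → ZMod p) ∈ LamU hp p Q (wo M C) := by
  intro x
  have h1 := hB.eigOK hq
  rw [ev_x] at h1
  exact lam_rep hp (rep_wo hp hA h) h1 x

/-- **The height theorem for `E₈(q)`** with exactly two degrees divisible by `ord_p(q)`. -/
theorem x0_eq_kJ_of_tab {F : Type} [Field F] [Fintype F] {p : ℕ} [hpp : Fact p.Prime] {I : Ideal AlgInt}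
    (hM : IsPModular p I) (h11 : 11 ≤ p) (hpF : (p : F) ≠ 0) {S : Type u} [Group S] [Finite S]
    (e : S ≃* ↥(chevE8.group F))
    (hlen : (([2, 8, 12, 14, 18, 20, 24, 30] : List ℕ).filter
      (fun n => orderOf (Fintype.card F : ZMod p) ∣ n)).length = 2) {C : List (Fin 8 × Mat 8)} (hC : ChainOK Am C) {P : Q4}
    (hq : (Fintype.card F : ZMod p) ^ 4 = ev (Fintype.card F : ZMod p) P) {B A C₀ : List Q4}
    (hB : EigQ P (hd C) (0, 1, 0, 0) B) (hA : EigQ P (hd C) (0, 1, 0, 0) A) (hC₀ : EigQ P (hd C) (0, 1, 0, 0) C₀)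
    (hind : ∀ s t : ZMod p, s • (vv (Fintype.card F : ZMod p) B : Fin 8 → ZMod p) +
      t • (vv (Fintype.card F : ZMod p) A : Fin 8 → ZMod p) = 0 → s = 0 ∧ t = 0)
    (hne : ∀ r ∈ R8, ev (Fintype.card F : ZMod p) (dot4 r C₀) ≠ 0) : x0 p I S = kJ p I S := by
  have hreg : ∀ s : Fin chevE8.nroots, lam (vv (Fintype.card F : ZMod p) C₀) (vec chevE8 8 s) ≠ 0 := by
    intro s h
    obtain ⟨r, hr, h1⟩ := lam_tab tab8 (vv (Fintype.card F : ZMod p) C₀ : Fin 8 → ZMod p) s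
    apply hne r hr
    rw [ev_dot 8 r C₀ (len8 r hr)]
    rcases h1 with h1 | h1
    · rw [← h1, h]
    · rw [← neg_eq_zero, ← h1, h]
  refine H214.XR.x0_eq_kJ_untw (D := chevE8) (dg := [2, 8, 12, 14, 18, 20, 24, 30]) (by simp) e8T' hM hpF ?_
    (not_dvd_W hpp.out h11) invC_E8 one_ne_zero (Nat.coprime_one_left p) e hlen (wo CoxeterMatrix.E₈ C)
    (mem_LamU e8T' H682.KB.hA hC hq hC₀) (mem_LamU e8T' H682.KB.hA hC hq hB) (mem_LamU e8T' H682.KB.hA hC hq hA) hind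
    (fun s hs => absurd hs (hreg s)) ?_
  · intro h
    apply not_dvd_W hpp.out h11
    rw [S1093.result (⟨8, CoxeterMatrix.E₈⟩, 696729600) (by simp)]
    have h1 : ([2, 8, 12, 14, 18, 20, 24, 30] : List ℕ).prod = 696729600 := by decide
    rwa [h1] at h
  · intro h
    apply hreg ⟨0, by decide⟩
    rw [h]
    unfold lam
    simp

/-! ### `ord_p(q) = 8` -/

/-- the product of the three other conjugates in `ℤ[ζ₈]` -/
def adj8 (u : Q4) : Q4 :=
  mul4 (-1, 0, 0, 0) (u.1, u.2.2.2, -u.2.2.1, u.2.1)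
    (mul4 (-1, 0, 0, 0) (u.1, -u.2.1, u.2.2.1, -u.2.2.2) (u.1, -u.2.2.2, -u.2.2.1, -u.2.1))

/-- the regular vector -/
def C8 : List Q4 := [(1, -1, 0, 0), (0, 2, 0, 0), (-2, 2, -2, 0), (2, -2, 0, 2), (-2, 0, 2, -2), (2, -1, 0, 0),
  (-2, 1, 0, -1), (1, 1, -1, 1)]

theorem ec8 : EigQ (-1, 0, 0, 0) (hd D8.cw) (0, 1, 0, 0) C8 := by decide +kernel

/-- the norms of the values at the roots -/
theorem nrm8 : ∀ r ∈ R8, (mul4 (-1, 0, 0, 0) (adj8 (dot4 r C8)) (dot4 r C8)).2 = (0, 0, 0) ∧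
    (mul4 (-1, 0, 0, 0) (adj8 (dot4 r C8)) (dot4 r C8)).1 ∣ 5997600 := by decide +kernel

theorem not_dvd_5997600 {p : ℕ} (hp : p.Prime) (h19 : 19 ≤ p) : ¬ p ∣ 5997600 := by
  rw [show 5997600 = 2 ^ 5 * 3 ^ 2 * 5 ^ 2 * 7 ^ 2 * 17 by norm_num, hp.dvd_mul, hp.dvd_mul, hp.dvd_mul, hp.dvd_mul]
  rintro ((((h | h) | h) | h) | h)
  · have := Nat.le_of_dvd (by norm_num) (hp.dvd_of_dvd_pow h); omega
  · have := Nat.le_of_dvd (by norm_num) (hp.dvd_of_dvd_pow h); omega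
  · have := Nat.le_of_dvd (by norm_num) (hp.dvd_of_dvd_pow h); omega
  · have := Nat.le_of_dvd (by norm_num) (hp.dvd_of_dvd_pow h); omega
  · have := Nat.le_of_dvd (by norm_num) h; omega

/-- `q⁴ = -1` -/
theorem four_of_eight {p : ℕ} [Fact p.Prime] {q : ZMod p} (hd : orderOf q = 8) : q ^ 4 = -1 := by
  have h1 : q ^ 8 = 1 := by rw [← hd, pow_orderOf_eq_one]
  have h2 : q ^ 4 ≠ 1 := by
    intro h
    have h3 := orderOf_dvd_of_pow_eq_one h
    rw [hd] at h3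
    exact absurd h3 (by norm_num)
  have h3 : (q ^ 4 - 1) * (q ^ 4 + 1) = 0 := by linear_combination h1
  exact eq_neg_of_add_eq_zero_left ((mul_eq_zero.1 h3).resolve_left (sub_ne_zero.2 h2))

/-- **The height theorem for `E₈(q)`, `ord_p(q) = 8`, `19 ≤ p`.** -/
theorem ht_E8_8' {p : ℕ} [hpp : Fact p.Prime] {M : Ideal AlgInt} {F : Type} [Field F] [Fintype F] (hM : IsPModular p M)
    (hpF : (p : F) ≠ 0) (hd : orderOf (Fintype.card F : ZMod p) = 8) (h19 : 19 ≤ p) {S : Type u} [Group S] [Finite S]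
    (e : S ≃* ↥(chevE8.group F)) : x0 p M S = kJ p M S := by
  have hq4 := four_of_eight hd
  have hq : (Fintype.card F : ZMod p) ^ 4 = ev (Fintype.card F : ZMod p) (-1, 0, 0, 0) := by
    rw [hq4]
    unfold ev
    push_cast
    ring
  have h2 : (2 : ZMod p) ≠ 0 := by
    intro h
    have h1 : ((2 : ℕ) : ZMod p) = 0 := by exact_mod_cast h
    have := Nat.le_of_dvd (by norm_num) ((ZMod.natCast_eq_zero_iff _ _).1 h1)
    omega
  refine x0_eq_kJ_of_tab hM (by omega) hpF e ?_ D8.cw_ok hq D8.eb D8.ea ec8 ?_ ?_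
  · rw [hd]
    decide
  · intro s t h
    set q : ZMod p := (Fintype.card F : ZMod p) with hqdef
    have h1 : t * (q + q ^ 3) = 0 := by
      have h3 := congrFun h 1
      have h4 : (vv q D8.B : Fin 8 → ZMod p) 1 = ev q (0, 0, 0, 0) := rfl
      have h5 : (vv q D8.A : Fin 8 → ZMod p) 1 = ev q (0, 1, 0, 1) := rfl
      rw [Pi.add_apply, Pi.smul_apply, Pi.smul_apply, h4, h5, smul_eq_mul, smul_eq_mul, Pi.zero_apply] at h3
      unfold ev at h3
      push_cast at h3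
      linear_combination h3
    have h5 : s + t = 0 := by
      have h3 := congrFun h 5
      have h4 : (vv q D8.B : Fin 8 → ZMod p) 5 = ev q (1, 0, 0, 0) := rfl
      have h5 : (vv q D8.A : Fin 8 → ZMod p) 5 = ev q (1, 0, 0, 0) := rfl
      rw [Pi.add_apply, Pi.smul_apply, Pi.smul_apply, h4, h5, smul_eq_mul, smul_eq_mul, Pi.zero_apply, ev_one] at h3
      linear_combination h3
    have h6 : t * 2 = 0 := by
      linear_combination (-q ^ 3 + q ^ 5) * h1 - t * (q ^ 4 - 2) * hq4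
    have h7 : t = 0 := (mul_eq_zero.1 h6).resolve_right h2
    rw [h7, add_zero] at h5
    exact ⟨h5, h7⟩
  · intro r hr h
    obtain ⟨h1, h3⟩ := nrm8 r hr
    have h4 := ev_mul hq (adj8 (dot4 r C8)) (dot4 r C8)
    rw [h, mul_zero] at h4
    have h5 : mul4 (-1, 0, 0, 0) (adj8 (dot4 r C8)) (dot4 r C8) =
        ((mul4 (-1, 0, 0, 0) (adj8 (dot4 r C8)) (dot4 r C8)).1, 0, 0, 0) := Prod.ext rfl h1
    rw [h5, ev_int, ZMod.intCast_zmod_eq_zero_iff_dvd] at h4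
    have h6 : (p : ℤ) ∣ 5997600 := h4.trans h3
    exact not_dvd_5997600 hpp.out h19 (by exact_mod_cast h6)

/-- **The height theorem for `E₈(q)`, `ord_p(q) = 8`, `41 ≤ p`.** -/
theorem ht_E8_8 {p : ℕ} [Fact p.Prime] {M : Ideal AlgInt} {F : Type} [Field F] [Fintype F] (hM : IsPModular p M)
    (hpF : (p : F) ≠ 0) (hd : orderOf (Fintype.card F : ZMod p) = 8) (h41 : 41 ≤ p) :
    x0 p M ↥(chevE8.group F) = kJ p M ↥(chevE8.group F) := by
  have : Finite ↥(chevE8.group F) := by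
    have h1 : Finite F := inferInstance
    infer_instance
  exact ht_E8_8' hM hpF hd (by omega) (MulEquiv.refl _)

end Cfsg.Agent.H581.XE8
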